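import Cfsg.Agent.Lib.SylowTwentyOne41.Orbit
import Cfsg.Agent.Lib.SmallGroups.Basic
import Cfsg.Agent.Lib.SmallGroups.PrimeSylow
import Cfsg.Agent.Lib.SylowNumber.Small
import Cfsg.Agent.Lib.Transfer.Abelian

/-! No simple group has exactly twenty-one Sylow 5-subgroups. -/

set_option autoImplicit false
set_option maxHeartbeats 1000000

namespace Cfsg.Agent.SylowTwentyOne41

open Subgroup Equiv Cfsg.Agent.Lib
open scoped Pointwise

universe u

theorem alt_four {α : Type*} [Fintype α] [DecidableEq α] (h4 : Nat.card α = 4)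
    (R : Subgroup (Perm α)) (hR : ∀ g ∈ R, Perm.sign g = 1) :
    Nat.card R ∣ 12 ∧ Nat.card R ≠ 6 := by
  have hle : R ≤ alternatingGroup α := fun g hg => Perm.mem_alternatingGroup.2 (hR g hg)
  haveI : Nontrivial α := Finite.one_lt_card_iff_nontrivial.1 (by omega)
  have hA : Nat.card (alternatingGroup α) = 12 := by
    have h := two_mul_nat_card_alternatingGroup (α := α)
    rw [Nat.card_perm, h4] at h
    simp only [Nat.factorial] at h
    omega
  refine ⟨hA ▸ Subgroup.card_dvd_of_le hle, fun h6 => ?_⟩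
  have hidx : (R.subgroupOf (alternatingGroup α)).index = 2 := by
    have h := (R.subgroupOf (alternatingGroup α)).card_mul_index
    rw [Nat.card_congr (Subgroup.subgroupOfEquivOfLe hle).toEquiv, h6, hA] at h
    omega
  have h3 : {σ : Perm α | σ.IsThreeCycle} ⊆ R := by
    intro c hc
    have hcA : c ∈ alternatingGroup α := hc.mem_alternatingGroup
    have h2 : (⟨c * c, mul_mem hcA hcA⟩ : alternatingGroup α) * ⟨c * c, mul_mem hcA hcA⟩ ∈
        R.subgroupOf (alternatingGroup α) := by
      rw [Subgroup.mul_mem_iff_of_index_two hidx]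
    have h5 : c ^ 3 = 1 := by rw [← hc.orderOf]; exact pow_orderOf_eq_one c
    have h6' : c * c * (c * c) = c := by
      rw [show c * c * (c * c) = c ^ 3 * c by simp [pow_succ, mul_assoc], h5, one_mul]
    rw [mem_subgroupOf, Subgroup.coe_mul] at h2
    simpa [h6'] using h2
  have h12 := Subgroup.card_dvd_of_le ((Subgroup.closure_le R).2 h3)
  rw [Perm.closure_three_cycles_eq_alternating, hA, h6] at h12
  norm_num at h12

theorem involution_moves {α : Type*} [Fintype α] [DecidableEq α] (h4 : Nat.card α = 4)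
    (g : Perm α) (hs : Perm.sign g = 1) (hg : g * g = 1) (hg1 : g ≠ 1) (a : α) : g a ≠ a := by
  intro ha
  have hord : orderOf g = 2 := orderOf_eq_prime (by rw [pow_two, hg]) hg1
  obtain ⟨n, hn⟩ := Perm.cycleType_prime_order (σ := g) (by rw [hord]; exact Nat.prime_two)
  rw [hord] at hn
  rw [Perm.sign_of_cycleType, hn, Multiset.sum_replicate, Multiset.card_replicate] at hs
  have hcard : g.support.card = (n + 1) * 2 := by
    rw [← Perm.sum_cycleType, hn, Multiset.sum_replicate, smul_eq_mul]
  have hlt : g.support.card < 4 := by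
    rw [← h4, Nat.card_eq_fintype_card]
    exact Finset.card_lt_univ_of_notMem (x := a) (by simp [ha])
  obtain rfl : n = 0 := by omega
  exact absurd hs (by decide)

variable {S : Type u} [Group S] [Finite S]

theorem fixed_iff [Fact (Nat.Prime 5)] [Fintype (Sylow 5 S)] [DecidableEq (Sylow 5 S)] (P : Sylow 5 S) (hP : Nat.card (P : Subgroup S) = 5) {x : S}
    (hx : zpowers x = (P : Subgroup S)) (Q : Sylow 5 S) : x • Q = Q ↔ Q = P := by
  constructor
  · intro h
    have hn : x ∈ normalizer ((Q : Subgroup S) : Set S) := Sylow.smul_eq_iff_mem_normalizer.1 h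
    have hpx : IsPGroup 5 (zpowers x) := hx ▸ P.2
    have h1 := hpx.inf_normalizer_sylow Q
    replace h1 : zpowers x ⊓ normalizer ((Q : Subgroup S) : Set S) = zpowers x ⊓ (Q : Subgroup S) := h1
    rw [inf_eq_left.2 ((zpowers_le).2 hn), eq_comm, inf_eq_left, hx] at h1
    have hQ : Nat.card (Q : Subgroup S) = 5 := (Nat.card_congr (Sylow.equiv Q P).toEquiv).trans hP
    exact Sylow.ext (Subgroup.eq_of_le_of_card_ge h1 (by rw [hP, hQ])).symm
  · rintro rfl
    exact Sylow.smul_eq_iff_mem_normalizer.2 (le_normalizer (hx ▸ mem_zpowers x))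

/-- the argument at the prime 7 -/
theorem seven [IsSimpleGroup S] (hS : ¬ IsMulCommutative S) (h21 : Nat.card (Sylow 5 S) = 21)
    (hinj : Function.Injective (MulAction.toPermHom S (Sylow 5 S))) {w : ℕ}
    (hw : Nat.card S = 105 * w) (hw3 : w = 4 ∨ w = 8 ∨ w = 12) : False := by
  classical
  haveI : Fact (Nat.Prime 7) := ⟨by norm_num⟩
  haveI : Fintype (Sylow 5 S) := Fintype.ofFinite _
  have h7 : Nat.card S = 7 ^ 1 * (15 * w) := by rw [hw]; ring
  have hnd : ¬ 7 ∣ 15 * w := by rcases hw3 with rfl | rfl | rfl <;> norm_num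
  let T : Sylow 7 S := default
  have hT : Nat.card (T : Subgroup S) = 7 := (SmallGroups.card_sylow_eq T h7 hnd).trans (pow_one 7)
  have hd7 : 7 ∣ Nat.card S := ⟨15 * w, by rw [h7, pow_one]⟩
  haveI := isCyclic_of_prime_card hT
  obtain ⟨y, hy⟩ := (Subgroup.isCyclic_iff_exists_zpowers_eq_top _).1 this
  set f := MulAction.toPermHom S (Sylow 5 S) with hf
  have hy1 : y ≠ 1 := by
    rintro rfl
    rw [zpowers_one_eq_bot] at hy
    rw [← hy, Subgroup.card_bot] at hT
    norm_num at hT
  have hyo : orderOf y = 7 := by rw [← Nat.card_zpowers, hy, hT]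
  have hX : f y ^ 7 = 1 := by rw [← map_pow, ← hyo, pow_orderOf_eq_one, map_one]
  have hX1 : f y ≠ 1 := fun h => hy1 (hinj (by rw [h, map_one]))
  have hnofix : ∀ Q : Sylow 5 S, f y Q ≠ Q := by
    intro Q h
    have hn : y ∈ normalizer ((Q : Subgroup S) : Set S) := Sylow.smul_eq_iff_mem_normalizer.1 h
    have h1 := Subgroup.card_dvd_of_le ((zpowers_le).2 hn)
    rw [Nat.card_zpowers, hyo] at h1
    haveI : Fact (Nat.Prime 5) := ⟨by norm_num⟩
    have h2 := SmallGroups.card_normalizer_sylow_mul Q
    rw [h21, hw] at h2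
    rcases hw3 with rfl | rfl | rfl <;> omega
  have hmoved : Nat.card (Moved (f y)) = 21 := by
    rw [← h21]
    exact Nat.card_congr (Equiv.subtypeUnivEquiv hnofix)
  have hcyc : Nat.card (Cyc (f y)) = 3 := by
    have := card_moved (x := f y) hX
    omega
  -- the centraliser
  set C := centralizer ((T : Subgroup S) : Set S) with hC
  have hmem : ∀ c : C, f (c : S) ∈ normalizer (zpowers (f y) : Set (Perm (Sylow 5 S))) := by
    intro c
    refine centralizer_le_normalizer _ ?_
    rw [mem_centralizer_iff]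
    intro g hg
    obtain ⟨j, rfl⟩ := mem_zpowers_iff.1 hg
    rw [← map_zpow, ← map_mul, ← map_mul,
      mem_centralizer_iff.1 c.2 (y ^ j) (zpow_mem (hy ▸ mem_zpowers y) j)]
  let g : C →* Perm (Cyc (f y)) := (cycPerm (f y)).comp ((f.comp C.subtype).codRestrict _ hmem)
  have hsgn : ∀ c : C, Perm.sign (g c) = 1 := by
    intro c
    have h1 := sign_eq (q := 7) hX hX1 (by norm_num) ((f.comp C.subtype).codRestrict _ hmem c)
      (fun z hz => absurd hz (hnofix z)) (Or.inl (by
        show f (c : S) * f y = f y * f (c : S)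
        rw [← map_mul, ← map_mul, mem_centralizer_iff.1 c.2 y (hy ▸ mem_zpowers y)]))
    change _ = Perm.sign (g c) at h1
    rw [← h1]
    exact SmallGroups.sign_toPerm hS _ (c : S)
  have hrange : Nat.card g.range ∣ 3 := by
    haveI : Nontrivial (Cyc (f y)) := Finite.one_lt_card_iff_nontrivial.1 (by omega)
    have hle : g.range ≤ alternatingGroup (Cyc (f y)) := by
      rintro _ ⟨c, rfl⟩; exact Perm.mem_alternatingGroup.2 (hsgn c)
    have h := two_mul_nat_card_alternatingGroup (α := Cyc (f y))
    rw [Nat.card_perm, hcyc] at h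
    simp only [Nat.factorial] at h
    refine (Subgroup.card_dvd_of_le hle).trans ?_
    rw [show Nat.card (alternatingGroup (Cyc (f y))) = 3 by omega]
  have hkerp : IsPGroup 7 g.ker := by
    intro c
    refine ⟨1, Subtype.ext (Subtype.ext ?_)⟩
    apply hinj
    rw [pow_one]
    have h1 := pow_eq_one (q := 7) hX ((f.comp C.subtype).codRestrict _ hmem c.1) (by
        show f (c.1 : S) * f y = f y * f (c.1 : S)
        rw [← map_mul, ← map_mul, mem_centralizer_iff.1 c.1.2 y (hy ▸ mem_zpowers y)])
      (fun z hz => absurd hz (hnofix z)) c.2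
    simp only [Subgroup.coe_pow, OneMemClass.coe_one, map_pow, map_one]
    exact h1
  have hkerle : Nat.card g.ker ∣ 7 := by
    obtain ⟨k, hk⟩ := IsPGroup.iff_card.mp hkerp
    have h1 : Nat.card g.ker ∣ Nat.card S := (Subgroup.card_subgroup_dvd_card _).trans
      (Subgroup.card_subgroup_dvd_card _)
    rw [hk] at h1 ⊢
    rcases Nat.lt_or_ge k 2 with h | h
    · interval_cases k <;> norm_num
    · exfalso
      apply hnd
      have h2 : 7 * 7 ∣ 7 * (15 * w) := by
        rw [show 7 * (15 * w) = Nat.card S by rw [h7, pow_one]]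
        exact (pow_dvd_pow 7 h).trans h1
      exact (Nat.mul_dvd_mul_iff_left (by norm_num)).1 h2
  have hC21 : Nat.card C ∣ 7 * 3 := by
    rw [← g.ker.card_mul_index, Subgroup.index_ker]
    exact mul_dvd_mul hkerle hrange
  have h7C : 7 ∣ Nat.card C :=
    hT ▸ Subgroup.card_dvd_of_le (SmallGroups.le_centralizer_of_prime hT)
  obtain ⟨u, hu⟩ := h7C
  rw [hu, Nat.mul_dvd_mul_iff_left (by norm_num)] at hC21
  obtain ⟨e, he, heN⟩ := SmallGroups.exists_card_normalizer_eq hT
  have he1 : e ≠ 1 := by
    intro h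
    refine SmallGroups.not_normalizer_le_centralizer hS hd7 T (le_of_eq ?_)
    exact (Subgroup.eq_of_le_of_card_ge (centralizer_le_normalizer _) (by rw [heN, h, one_mul])).symm
  have hn7 := SmallGroups.card_normalizer_sylow_mul T
  have hmod := card_sylow_modEq_one 7 S
  rw [Nat.ModEq] at hmod
  rw [heN, hu, hw] at hn7
  have he6 : e ≤ 6 := Nat.le_of_dvd (by norm_num) he
  have hu3 : u ≤ 3 := Nat.le_of_dvd (by norm_num) hC21
  rcases (Nat.dvd_prime Nat.prime_three).1 hC21 with rfl | rfl <;> rcases hw3 with rfl | rfl | rfl <;>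
    interval_cases e <;> omega

/-- no simple group has twenty-one Sylow 5-subgroups -/
theorem false_of_simple [IsSimpleGroup S] (hS : ¬ IsMulCommutative S)
    (h21 : Nat.card (Sylow 5 S) = 21) : False := by
  classical
  haveI : Fact (Nat.Prime 5) := ⟨by norm_num⟩
  haveI : Fact (Nat.Prime 2) := ⟨Nat.prime_two⟩
  haveI : Fintype (Sylow 5 S) := Fintype.ofFinite _
  let P : Sylow 5 S := default
  have h5 : 5 ∣ Nat.card S := by
    by_contra h
    have hb : (P : Subgroup S) = ⊥ := by
      obtain ⟨k, hk⟩ := IsPGroup.iff_card.mp P.2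
      rcases k with _ | k
      · exact Subgroup.card_eq_one.1 (by rw [hk, pow_zero])
      · exact absurd ((dvd_pow_self 5 (Nat.succ_ne_zero k)).trans
          (hk ▸ Subgroup.card_subgroup_dvd_card (P : Subgroup S))) h
    have := P.card_eq_index_normalizer
    rw [h21] at this
    haveI hn : (P : Subgroup S).Normal := by rw [hb]; infer_instance
    have htop : normalizer ((P : Subgroup S) : Set S) = ⊤ := normalizer_eq_top_iff.2 hn
    replace this : 21 = (normalizer ((P : Subgroup S) : Set S)).index := this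
    rw [htop, index_top] at this
    norm_num at this
  have hP : Nat.card (P : Subgroup S) = 5 :=
    SylowNumber.card_sylow_eq_prime_of_lt_sq hS h5 (by rw [h21]; norm_num) P
  set f := MulAction.toPermHom S (Sylow 5 S) with hf
  have hinj : Function.Injective f := by
    rw [← MonoidHom.ker_eq_bot_iff]
    refine SmallGroups.eq_bot_of_normal_of_ne_top inferInstance fun h => ?_
    refine SmallGroups.normalizer_sylow_ne_top hS h5 P ((eq_top_iff' _).2 fun a => ?_)
    have h2 : a ∈ f.ker := h ▸ mem_top a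
    exact Sylow.smul_eq_iff_mem_normalizer.1 (Equiv.ext_iff.1 h2 P)
  haveI := isCyclic_of_prime_card hP
  obtain ⟨x, hx⟩ := (Subgroup.isCyclic_iff_exists_zpowers_eq_top _).1 this
  have hx1 : x ≠ 1 := by
    rintro rfl
    rw [zpowers_one_eq_bot] at hx
    rw [← hx, Subgroup.card_bot] at hP
    norm_num at hP
  have hxo : orderOf x = 5 := by rw [← Nat.card_zpowers, hx, hP]
  have hx5 : x ^ 5 = 1 := orderOf_dvd_iff_pow_eq_one.1 (dvd_of_eq hxo)
  have hX : f x ^ 5 = 1 := by rw [← map_pow, hx5, map_one]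
  have hX1 : f x ≠ 1 := fun h => hx1 (hinj (by rw [h, map_one]))
  have hfix : ∀ Q, f x Q = Q ↔ Q = P := fun Q => fixed_iff P hP hx Q
  have hmoved : Nat.card (Moved (f x)) = 20 := by
    rw [Nat.card_eq_fintype_card, Fintype.card_subtype]
    have : Finset.univ.filter (fun z => f x z ≠ z) = Finset.univ.erase P := by
      ext z; simp [hfix]
    rw [this, Finset.card_erase_of_mem (Finset.mem_univ _), Finset.card_univ,
      ← Nat.card_eq_fintype_card, h21]
  have hcyc : Nat.card (Cyc (f x)) = 4 := by
    have := card_moved (x := f x) hX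
    omega
  set N := normalizer ((P : Subgroup S) : Set S) with hN
  have hmem : ∀ n : N, f (n : S) ∈ normalizer (zpowers (f x) : Set (Perm (Sylow 5 S))) := by
    intro n
    rw [← MonoidHom.map_zpowers, hx]
    exact (Subgroup.le_normalizer_map f) ⟨n, n.2, rfl⟩
  let φ : N →* ↥(normalizer (zpowers (f x) : Set (Perm (Sylow 5 S)))) :=
    (f.comp N.subtype).codRestrict _ hmem
  let ρ : N →* Perm (Cyc (f x)) := (cycPerm (f x)).comp φ
  have hφfix : ∀ n : N, ∀ z, f x z = z → (φ n : Perm (Sylow 5 S)) z = z := by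
    intro n z hz
    rw [(hfix z).1 hz]
    exact Sylow.smul_eq_iff_mem_normalizer.2 n.2
  have hsgn : ∀ n : N, Perm.sign (ρ n) = 1 := by
    intro n
    rw [show ρ n = cycPerm (f x) (φ n) from rfl,
      ← sign_eq (q := 5) hX hX1 (by norm_num) (φ n) (hφfix n) (Or.inr (by rw [hcyc]; decide))]
    exact SmallGroups.sign_toPerm hS _ (n : S)
  set C := (centralizer ((P : Subgroup S) : Set S)).subgroupOf N with hC
  have hPN : (P : Subgroup S) ≤ N := le_normalizer
  have hPC : (P : Subgroup S).subgroupOf N ≤ C := fun a ha =>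
    SmallGroups.le_centralizer_of_prime hP ha
  haveI hCn : C.Normal := by
    have : C = ((P : Subgroup S).normalizerMonoidHom).ker := by
      rw [Subgroup.normalizerMonoidHom_ker]
    rw [this]; infer_instance
  have hcommx : ∀ n : N, n ∈ C → f (n : S) * f x = f x * f (n : S) := fun n hn => by
    rw [← map_mul, ← map_mul,
      mem_centralizer_iff.1 (show (n : S) ∈ centralizer ((P : Subgroup S) : Set S) from hn) x
        (hx ▸ mem_zpowers x)]
  -- `C ⊓ ker ρ` has order five
  have hKC : Nat.card (C ⊓ ρ.ker : Subgroup N) = 5 := by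
    have hp : IsPGroup 5 (C ⊓ ρ.ker : Subgroup N) := by
      intro c
      refine ⟨1, Subtype.ext (Subtype.ext ?_)⟩
      apply hinj
      rw [pow_one]
      have h1 := pow_eq_one (q := 5) hX (φ c.1) (hcommx _ c.2.1) (hφfix _) c.2.2
      simp only [Subgroup.coe_pow, OneMemClass.coe_one, map_pow, map_one]
      exact h1
    have hle : (P : Subgroup S).subgroupOf N ≤ C ⊓ ρ.ker := by
      refine le_inf hPC fun a ha => MonoidHom.mem_ker.2 (Equiv.ext fun o => ?_)
      induction o using Quotient.inductionOn with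
      | h z =>
        show cycPerm (f x) (φ a) (Quotient.mk _ z) = _
        rw [cycPerm_mk]
        refine Quotient.sound (s := cycRel (f x)) ?_
        have ha' : (a : S) ∈ zpowers x := hx.symm ▸ ha
        obtain ⟨j, hj⟩ := mem_zpowers_iff.1 ha'
        refine Perm.SameCycle.symm ⟨j, ?_⟩
        rw [← map_zpow, hj]
        rfl
    have hc5 : Nat.card ((P : Subgroup S).subgroupOf N) = 5 := by
      rw [Nat.card_congr (Subgroup.subgroupOfEquivOfLe hPN).toEquiv, hP]
    obtain ⟨Q, hQ⟩ := (hp.map N.subtype).exists_le_sylow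
    have h1 : Nat.card (C ⊓ ρ.ker : Subgroup N) ≤ 5 := by
      refine le_of_eq_of_le (Subgroup.card_map_of_injective (f := N.subtype) Subtype.val_injective).symm ?_
      exact (Subgroup.card_le_of_le hQ).trans_eq ((Nat.card_congr (Sylow.equiv Q P).toEquiv).trans hP)
    have h2 := Subgroup.card_le_of_le hle
    omega
  set v := Nat.card (C.map ρ) with hv
  have hCcard : Nat.card C = 5 * v := by
    have h := (ρ.comp C.subtype).ker.card_mul_index
    rw [Subgroup.index_ker, MonoidHom.range_comp, Subgroup.range_subtype] at h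
    rw [← h]
    congr 1
    refine Eq.trans ?_ hKC
    rw [← MonoidHom.comap_ker]
    exact (Nat.card_congr (Subgroup.equivMapOfInjective _ C.subtype Subtype.val_injective).toEquiv).trans
      (by rw [Subgroup.map_comap_eq, Subgroup.range_subtype])
  have hv12 : v ∣ 12 ∧ v ≠ 6 := alt_four hcyc _ (by rintro _ ⟨n, -, rfl⟩; exact hsgn n)
  have he4 : C.index ∣ 4 := SmallGroups.relIndex_centralizer_dvd hP
  have he1 : C.index ≠ 1 := fun h => SmallGroups.not_normalizer_le_centralizer hS h5 P
    (fun n hn => by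
      have : (⟨n, hn⟩ : N) ∈ C := (Subgroup.index_eq_one.1 h) ▸ mem_top _
      exact this)
  have hNcard : Nat.card N = 5 * v * C.index := by rw [← C.card_mul_index, hCcard]
  have hScard : Nat.card S = 105 * (v * C.index) := by
    rw [← SmallGroups.card_normalizer_sylow_mul P, h21, ← hN, hNcard]; ring
  have he24 : C.index = 2 ∨ C.index = 4 := by
    have := Nat.le_of_dvd (by norm_num) he4
    have := Subgroup.index_ne_zero_of_finite (H := C)
    generalize C.index = e at *
    interval_cases e <;> omega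
  have hv' : v = 1 ∨ v = 2 ∨ v = 3 ∨ v = 4 ∨ v = 12 := by
    obtain ⟨h1, h2⟩ := hv12
    have := Nat.le_of_dvd (by norm_num) h1
    generalize v = w at *
    interval_cases w <;> omega
  -- small cases
  have hvbig : v = 4 ∨ v = 12 := by
    by_contra hsmall
    have hw : (v * C.index = 2 ∨ v * C.index = 6) ∨ v * C.index = 4 ∨ v * C.index = 8 ∨ v * C.index = 12 := by
      rcases he24 with h | h <;> rw [h] <;> omega
    rcases hw with h | h
    · have h2 : Nat.card S = 2 ^ 1 * (105 * (v * C.index) / 2) := by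
        rcases h with h | h <;> rw [hScard, h] <;> norm_num
      let T : Sylow 2 S := default
      have hT : Nat.card (T : Subgroup S) = 2 :=
        (SmallGroups.card_sylow_eq T h2 (by rcases h with h | h <;> rw [h] <;> norm_num)).trans (pow_one 2)
      obtain ⟨e, he, heN⟩ := SmallGroups.exists_card_normalizer_eq hT
      have he1' : e = 1 := Nat.dvd_one.1 he
      rw [he1', one_mul] at heN
      exact SmallGroups.not_normalizer_le_centralizer hS ⟨_, by rw [pow_one] at h2; exact h2⟩ T
        (Subgroup.eq_of_le_of_card_ge (centralizer_le_normalizer _) heN.le).ge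
    · exact seven hS h21 hinj hScard h
  -- the image of `N` is the image of `C`
  have hR : Nat.card ρ.range = v := by
    have hle : C.map ρ ≤ ρ.range := by
      rintro _ ⟨c, -, rfl⟩; exact ⟨c, rfl⟩
    obtain ⟨k, hk⟩ := Subgroup.card_dvd_of_le hle
    rw [← hv] at hk
    have hk4 : k ∣ 4 := by
      refine Nat.dvd_trans ?_ he4
      have h1 : (C.map ρ).relIndex ρ.range ∣ C.index := by
        have h := Subgroup.index_map_dvd C (f := ρ.rangeRestrict) ρ.rangeRestrict_surjective
        refine dvd_trans (dvd_of_eq ?_) h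
        rw [Subgroup.relIndex]
        congr 1
        ext ⟨g, hg⟩
        constructor
        · rintro ⟨a, ha, hag⟩
          exact ⟨a, ha, Subtype.ext hag⟩
        · rintro ⟨a, ha, hag⟩
          exact ⟨a, ha, congrArg Subtype.val hag⟩
      refine dvd_trans (dvd_of_eq ?_) h1
      have h2 := ((C.map ρ).subgroupOf ρ.range).card_mul_index
      rw [Nat.card_congr (Subgroup.subgroupOfEquivOfLe hle).toEquiv, ← hv, hk] at h2
      exact (Nat.eq_of_mul_eq_mul_left (by omega) h2).symm
    have h12 := (alt_four hcyc ρ.range (by rintro _ ⟨n, rfl⟩; exact hsgn n)).1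
    rw [hk] at h12
    have hk1 : k = 1 := by
      have := Nat.le_of_dvd (by norm_num) hk4
      interval_cases k
      · norm_num at h12
      · rfl
      all_goals rcases hvbig with h | h <;> rw [h] at h12 <;> omega
    rw [hk, hk1, mul_one]
  have hKeven : 2 ∣ Nat.card ρ.ker := by
    have h := ρ.ker.card_mul_index
    rw [Subgroup.index_ker, hR, hNcard] at h
    have h' : Nat.card ρ.ker = 5 * C.index := by
      have hv0 : 0 < v := by omega
      exact Nat.eq_of_mul_eq_mul_right hv0 (by rw [h]; ring)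
    rw [h']
    rcases he24 with h | h <;> rw [h] <;> norm_num
  -- the Sylow 2-subgroups
  let T₀ : Sylow 2 N := default
  set T' : Subgroup S := (T₀ : Subgroup N).map N.subtype with hT'
  have hTsyl : ¬ 2 ∣ T'.index := by
    rw [hT', Subgroup.index_map_subtype]
    intro h
    rcases Nat.prime_two.dvd_mul.1 h with h' | h'
    · exact T₀.not_dvd_index h'
    · have hi : Nat.card (Sylow 5 S) = (normalizer ((P : Subgroup S) : Set S)).index := P.card_eq_index_normalizer
      rw [hN, ← hi, h21] at h'
      norm_num at h'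
  let T : Sylow 2 S := (T₀.2.map N.subtype).toSylow hTsyl
  have hTT : (T : Subgroup S) = T' := IsPGroup.toSylow_coe _ _
  -- `N / C` is commutative
  haveI := isCyclic_of_prime_card hP
  have hNC : ∀ a b : N, a * b * a⁻¹ * b⁻¹ ∈ C := by
    intro a b
    have hker : ((P : Subgroup S).normalizerMonoidHom).ker = C := by
      rw [Subgroup.normalizerMonoidHom_ker]
    rw [← hker, MonoidHom.mem_ker, map_mul, map_mul, map_mul, map_inv, map_inv]
    have hc : ∀ u v : MulAut (P : Subgroup S), u * v = v * u := by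
      intro u v
      apply (IsCyclic.mulAutMulEquiv (P : Subgroup S)).injective
      rw [map_mul, map_mul, mul_comm]
    rw [hc _ (((P : Subgroup S).normalizerMonoidHom) b), mul_inv_cancel_right, mul_inv_cancel]
  have hTab : ∀ a ∈ (T₀ : Subgroup N), ∀ b ∈ (T₀ : Subgroup N), a * b = b * a := by
    intro a ha b hb
    set w := a * b * a⁻¹ * b⁻¹ with hw
    have hwT : w ∈ (T₀ : Subgroup N) := mul_mem (mul_mem (mul_mem ha hb) (inv_mem ha)) (inv_mem hb)
    have hwK : w ∈ ρ.ker := by
      rw [MonoidHom.mem_ker, hw, map_mul, map_mul, map_mul, map_inv, map_inv]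
      set I := (T₀ : Subgroup N).map ρ
      have hI2 : IsPGroup 2 I := T₀.2.map ρ
      obtain ⟨k, hk⟩ := IsPGroup.iff_card.mp hI2
      have hIR : I ≤ ρ.range := by rintro _ ⟨c, -, rfl⟩; exact ⟨c, rfl⟩
      have h12 := (Subgroup.card_dvd_of_le hIR).trans (dvd_of_eq hR)
      rw [hk] at h12
      have hk2 : k ≤ 2 := by
        by_contra hk3
        have h8 : 2 ^ 3 ∣ v := (pow_dvd_pow 2 (by omega)).trans h12
        rcases hvbig with h | h <;> rw [h] at h8 <;> norm_num at h8
      have hab : IsMulCommutative I := by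
        interval_cases k
        · have := (Nat.card_eq_one_iff_unique.1 (hk.trans (pow_zero 2))).1
          exact ⟨⟨fun a b => Subsingleton.elim _ _⟩⟩
        · haveI := isCyclic_of_prime_card (p := 2) (α := I) (by simpa using hk)
          exact IsCyclic.isMulCommutative
        · exact IsPGroup.isMulCommutative_of_card_eq_prime_sq hk
      have hcc : ρ a * ρ b = ρ b * ρ a := congrArg Subtype.val
        (hab.is_comm.comm ⟨ρ a, Subgroup.mem_map_of_mem ρ ha⟩ ⟨ρ b, Subgroup.mem_map_of_mem ρ hb⟩)
      rw [hcc, mul_inv_cancel_right, mul_inv_cancel]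
    have hw5 := orderOf_dvd_natCard (⟨w, Subgroup.mem_inf.2 ⟨hNC a b, hwK⟩⟩ : (C ⊓ ρ.ker : Subgroup N))
    rw [hKC, Subgroup.orderOf_mk] at hw5
    obtain ⟨k, hk⟩ := T₀.2 ⟨w, hwT⟩
    have hk' : w ^ 2 ^ k = 1 := congrArg Subtype.val hk
    have hw2 := orderOf_dvd_of_pow_eq_one hk'
    have h1 : orderOf w = 1 := Nat.eq_one_of_dvd_coprimes
      (Nat.Coprime.pow_right k (by norm_num)) hw5 hw2
    rw [orderOf_eq_one_iff, hw, mul_inv_eq_one, mul_inv_eq_iff_eq_mul] at h1
    exact h1
  have hTcomm : IsMulCommutative (T : Subgroup S) := by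
    refine ⟨⟨fun a b => Subtype.ext ?_⟩⟩
    obtain ⟨a', ha', hae⟩ := (hTT ▸ a.2 : (a : S) ∈ T')
    obtain ⟨b', hb', hbe⟩ := (hTT ▸ b.2 : (b : S) ∈ T')
    show (a : S) * b = b * a
    rw [← hae, ← hbe, ← map_mul, ← map_mul, hTab a' ha' b' hb']
  -- the distinguished involution
  obtain ⟨u, huK, huT, hu2⟩ : ∃ u : N, u ∈ ρ.ker ∧ u ∈ (T₀ : Subgroup N) ∧ orderOf u = 2 := by
    obtain ⟨k, hk⟩ := exists_prime_orderOf_dvd_card' 2 hKeven
    obtain ⟨Q, hQ⟩ := (IsPGroup.of_card (p := 2) (n := 1) (by
      rw [Nat.card_zpowers, Subgroup.orderOf_coe, hk, pow_one]) :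
        IsPGroup 2 (zpowers (k : N))).exists_le_sylow
    obtain ⟨g, hg⟩ := MulAction.exists_smul_eq N Q T₀
    refine ⟨g * (k : N) * g⁻¹, Subgroup.Normal.conj_mem inferInstance _ k.2 g, ?_, ?_⟩
    · rw [← hg]
      change g * (k : N) * g⁻¹ ∈ MulAut.conj g • (Q : Subgroup N)
      exact Subgroup.smul_mem_pointwise_smul _ (MulAut.conj g) _ (hQ (mem_zpowers _))
    · rw [show g * (k : N) * g⁻¹ = MulAut.conj g (k : N) from rfl, MulEquiv.orderOf_eq,
        Subgroup.orderOf_coe, hk]
  have hu1 : u ≠ 1 := fun h => by rw [h, orderOf_one] at hu2; omega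
  have huC : u ∉ C := by
    intro h
    have h1 := orderOf_dvd_natCard (⟨u, Subgroup.mem_inf.2 ⟨h, huK⟩⟩ : (C ⊓ ρ.ker : Subgroup N))
    rw [hKC, Subgroup.orderOf_mk, hu2] at h1
    norm_num at h1
  have hunc : (φ u : Perm (Sylow 5 S)) * f x ≠ f x * φ u := by
    intro h
    apply huC
    have h' : (u : S) * x = x * u := hinj (by rw [map_mul, map_mul]; exact h)
    show (u : S) ∈ centralizer ((P : Subgroup S) : Set S)
    rw [← hx, mem_centralizer_iff]
    intro g hg
    obtain ⟨j, rfl⟩ := mem_zpowers_iff.1 hg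
    exact ((show Commute (u : S) x from h').zpow_right j).symm.eq
  obtain ⟨o⟩ : Nonempty (Cyc (f x)) := (Nat.card_pos_iff.1 (by omega)).1
  obtain ⟨z, hz⟩ := exists_fixed (q := 5) hX (φ u) hunc o (by
    show ρ u o = o
    rw [MonoidHom.mem_ker.1 huK, Perm.one_apply])
  -- uniqueness
  have huniq : ∀ t : N, t ∈ (T₀ : Subgroup N) → orderOf t = 2 →
      (∃ z : Moved (f x), f (t : S) z = z) → t = u := by
    rintro t htT ht2 ⟨z, hz⟩
    have htt : t * t = 1 := by rw [← pow_two, ← ht2, pow_orderOf_eq_one]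
    have huu : u * u = 1 := by rw [← pow_two, ← hu2, pow_orderOf_eq_one]
    have htK : t ∈ ρ.ker := by
      by_contra h
      have h1 := involution_moves hcyc (ρ t) (hsgn t) (by rw [← map_mul, htt, map_one])
        (fun h' => h (MonoidHom.mem_ker.2 h')) (Quotient.mk _ z)
      apply h1
      show cycPerm (f x) (φ t) _ = _
      rw [cycPerm_mk]
      congr 1
      exact Subtype.ext hz
    have htC : t ∉ C := by
      intro h
      have h1 := orderOf_dvd_natCard (⟨t, Subgroup.mem_inf.2 ⟨h, htK⟩⟩ : (C ⊓ ρ.ker : Subgroup N))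
      rw [hKC, Subgroup.orderOf_mk, ht2] at h1
      norm_num at h1
    -- both are the involution of the cyclic group `N / C`
    have hker : ((P : Subgroup S).normalizerMonoidHom).ker = C := by
      rw [Subgroup.normalizerMonoidHom_ker]
    have hev : ∀ s : N, s ∉ C → s * s = 1 →
        IsCyclic.mulAutMulEquiv (P : Subgroup S) ((P : Subgroup S).normalizerMonoidHom s) = -1 := by
      intro s hs hss
      set a := IsCyclic.mulAutMulEquiv (P : Subgroup S) ((P : Subgroup S).normalizerMonoidHom s)
      have ha : a * a = 1 := by rw [← map_mul, ← map_mul, hss, map_one, map_one]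
      haveI : Fact (Nat.card (P : Subgroup S)).Prime := ⟨by rw [hP]; norm_num⟩
      have ha' : (a : ZMod (Nat.card (P : Subgroup S))) * a = 1 := by rw [← Units.val_mul, ha, Units.val_one]
      rcases mul_self_eq_one_iff.1 ha' with h | h
      · exfalso
        apply hs
        rw [← hker, MonoidHom.mem_ker]
        apply (IsCyclic.mulAutMulEquiv (P : Subgroup S)).injective
        rw [map_one]
        exact Units.ext h
      · exact Units.ext h
    have htu : t * u ∈ C := by
      rw [← hker, MonoidHom.mem_ker]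
      apply (IsCyclic.mulAutMulEquiv (P : Subgroup S)).injective
      rw [map_mul, map_mul, hev t htC htt, hev u huC huu, map_one, neg_mul_neg, one_mul]
    have htuT := mul_mem htT huT
    have h1 : orderOf (t * u) = 1 := by
      have h5' := orderOf_dvd_natCard
        (⟨t * u, Subgroup.mem_inf.2 ⟨htu, mul_mem htK huK⟩⟩ : (C ⊓ ρ.ker : Subgroup N))
      rw [hKC, Subgroup.orderOf_mk] at h5'
      obtain ⟨k, hk⟩ := T₀.2 ⟨t * u, htuT⟩
      have hk' : (t * u) ^ 2 ^ k = 1 := congrArg Subtype.val hk
      exact Nat.eq_one_of_dvd_coprimes (Nat.Coprime.pow_right k (by norm_num)) h5'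
        (orderOf_dvd_of_pow_eq_one hk')
    rw [orderOf_eq_one_iff] at h1
    rw [mul_eq_one_iff_eq_inv.1 h1]
    exact inv_eq_of_mul_eq_one_right huu
  -- `u` is central in the normaliser of `T`
  have huTS : (u : S) ∈ (T : Subgroup S) := hTT.symm ▸ Subgroup.mem_map_of_mem N.subtype huT
  have hcent : (u : S) ∈ centralizer (normalizer ((T : Subgroup S) : Set S) : Set S) := by
    rw [mem_centralizer_iff]
    intro n hn
    have hconj : n * u * n⁻¹ ∈ (T : Subgroup S) := (mem_normalizer_iff.1 hn _).1 huTS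
    obtain ⟨t, htT, hte⟩ := (hTT ▸ hconj : n * (u : S) * n⁻¹ ∈ T')
    have ht2 : orderOf t = 2 := by
      rw [← orderOf_injective N.subtype Subtype.val_injective, hte,
        show n * (u : S) * n⁻¹ = MulAut.conj n (u : S) from rfl, MulEquiv.orderOf_eq,
        Subgroup.orderOf_coe, hu2]
    have hfxd : ∀ y : Sylow 5 S, f (u : S) y = y → f (t : S) (f n y) = f n y := by
      intro y hy
      rw [show (t : S) = n * u * n⁻¹ from hte, map_mul, map_mul, map_inv, Perm.mul_apply,
        Perm.mul_apply, show (f n)⁻¹ (f n y) = y from (f n).symm_apply_apply y, hy]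
    have hfz : ∃ z : Moved (f x), f (t : S) z = z := by
      by_cases h : f n z.1 = P
      · refine ⟨⟨f n P, fun h' => ?_⟩, hfxd P (Sylow.smul_eq_iff_mem_normalizer.2 u.2)⟩
        exact z.2 ((hfix _).2 ((f n).injective (h.trans ((hfix _).1 h').symm)))
      · exact ⟨⟨f n z.1, fun h' => h ((hfix _).1 h')⟩, hfxd z.1 hz⟩
    rw [huniq t htT ht2 hfz] at hte
    exact (mul_inv_eq_iff_eq_mul.1 hte.symm)
  obtain ⟨h1, h2, -⟩ := Transfer.abelian_sylow_normalizer T hTcomm
  rw [h1, SmallGroups.commutator_eq_top hS, top_inf_eq] at h2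
  have : (u : S) ∈ (⊥ : Subgroup S) := h2 ▸ Subgroup.mem_inf.2 ⟨huTS, huTS, hcent⟩
  exact hu1 (Subtype.ext (Subgroup.mem_bot.1 this))

end Cfsg.Agent.SylowTwentyOne41
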