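import Mathlib

/-! The permutation of the cycles of a permutation `x` of odd prime order induced by an element
of the normaliser of `⟨x⟩`, and a sign formula. -/

set_option autoImplicit false

namespace Cfsg.Agent.SylowTwentyOne41

open Equiv Equiv.Perm

variable {Ω : Type*} [Fintype Ω] [DecidableEq Ω] (x : Perm Ω)

/-- moved points -/
abbrev Moved : Type _ := {z : Ω // x z ≠ z}

/-- the relation of being in the same cycle -/
def cycRel : Setoid (Moved x) where
  r a b := SameCycle x a.1 b.1
  iseqv := ⟨fun a => SameCycle.refl x a.1, fun h => h.symm, fun h h' => h.trans h'⟩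

/-- the set of nontrivial cycles -/
abbrev Cyc : Type _ := Quotient (cycRel x)

theorem conj_mem {h : Perm Ω} (hh : h ∈ Subgroup.normalizer (Subgroup.zpowers x : Set (Perm Ω)))
    {g : Perm Ω} (hg : g ∈ Subgroup.zpowers x) : h * g * h⁻¹ ∈ Subgroup.zpowers x :=
  (Subgroup.mem_normalizer_iff.1 hh g).1 hg

theorem sameCycle_map {h : Perm Ω}
    (hh : h ∈ Subgroup.normalizer (Subgroup.zpowers x : Set (Perm Ω))) {a b : Ω}
    (hab : SameCycle x a b) : SameCycle x (h a) (h b) := by
  obtain ⟨i, rfl⟩ := hab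
  obtain ⟨j, hj⟩ := Subgroup.mem_zpowers_iff.1 (conj_mem x hh (zpow_mem (Subgroup.mem_zpowers x) i))
  exact ⟨j, by rw [hj]; simp⟩

theorem moved_map {h : Perm Ω}
    (hh : h ∈ Subgroup.normalizer (Subgroup.zpowers x : Set (Perm Ω))) {a : Ω} (ha : x a ≠ a) :
    x (h a) ≠ h a := by
  intro hc
  obtain ⟨j, hj⟩ := Subgroup.mem_zpowers_iff.1 (conj_mem x (inv_mem hh) (Subgroup.mem_zpowers x))
  have h1 : (h⁻¹ * x * h⁻¹⁻¹) a = a := by simp [hc]
  rw [← hj] at h1
  have h2 : (h * x ^ j * h⁻¹) = x := by rw [hj]; group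
  -- `x ^ j` fixes `a`, and `x` is a power of it
  obtain ⟨k, hk⟩ := Subgroup.mem_zpowers_iff.1 (conj_mem x hh (Subgroup.mem_zpowers x))
  have h3 : x = (x ^ j) ^ k := by
    calc x = h⁻¹ * (h * x * h⁻¹) * h := by group
      _ = h⁻¹ * x ^ k * h := by rw [hk]
      _ = (h⁻¹ * x * h) ^ k := by
        rw [show h⁻¹ * x ^ k * h = h⁻¹ * x ^ k * h⁻¹⁻¹ by rw [inv_inv], ← conj_zpow, inv_inv]
      _ = (x ^ j) ^ k := by rw [hj, inv_inv]
  apply ha
  rw [h3]
  exact zpow_apply_eq_self_of_apply_eq_self h1 k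

/-- action of a normalising element on the moved points -/
def movedPerm {h : Perm Ω}
    (hh : h ∈ Subgroup.normalizer (Subgroup.zpowers x : Set (Perm Ω))) : Perm (Moved x) :=
  h.subtypePerm fun a => ⟨fun ha hc => by
      have := moved_map x (inv_mem hh) ha
      simp at this
      exact this hc, moved_map x hh⟩

theorem movedPerm_val {h : Perm Ω}
    (hh : h ∈ Subgroup.normalizer (Subgroup.zpowers x : Set (Perm Ω))) (a : Moved x) :
    (movedPerm x hh a : Ω) = h a := rfl

/-- action on the cycles -/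
def cycPerm :
    ↥(Subgroup.normalizer (Subgroup.zpowers x : Set (Perm Ω))) →* Perm (Cyc x) :=
  MonoidHom.mk' (fun h => Quotient.congr (movedPerm x h.2) (fun a b => by
      constructor
      · exact fun hab => sameCycle_map x h.2 hab
      · intro hab
        have := sameCycle_map x (inv_mem h.2) hab
        simp only [movedPerm_val, ← Perm.mul_apply, inv_mul_cancel, Perm.one_apply] at this
        exact this))
    (fun g h => Equiv.ext fun o => by
      induction o using Quotient.inductionOn with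
      | h a => rfl)

theorem cycPerm_mk (h : ↥(Subgroup.normalizer (Subgroup.zpowers x : Set (Perm Ω)))) (a : Moved x) :
    cycPerm x h (Quotient.mk (cycRel x) a) = Quotient.mk (cycRel x) (movedPerm x h.2 a) := rfl

variable {x} {q : ℕ} [Fact q.Prime]

theorem pow_congr_mod (hx : x ^ q = 1) {a b : ℕ} (h : (a : ZMod q) = b) : x ^ a = x ^ b := by
  rw [pow_eq_pow_mod a hx, pow_eq_pow_mod b hx, ((ZMod.natCast_eq_natCast_iff' a b q).1 h)]

theorem cast_eq_zero_of_fix (hx : x ^ q = 1) {z : Ω} (hz : x z ≠ z) {n : ℕ} (h : (x ^ n) z = z) :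
    (n : ZMod q) = 0 := by
  by_contra hn
  apply hz
  have h1 : x ^ (n * ((n : ZMod q)⁻¹).val) = x ^ 1 :=
    pow_congr_mod hx (by rw [Nat.cast_mul, ZMod.natCast_zmod_val, mul_inv_cancel₀ hn, Nat.cast_one])
  rw [pow_mul, pow_one] at h1
  conv_lhs => rw [← h1]
  exact pow_apply_eq_self_of_apply_eq_self h _

theorem pow_val_add (hx : x ^ q = 1) (i j : ZMod q) : x ^ (i + j).val = x ^ i.val * x ^ j.val := by
  rw [← pow_add]
  exact pow_congr_mod hx (by simp)

/-- the parametrisation of the moved points -/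
noncomputable def param (oi : Cyc x × ZMod q) : Moved x :=
  ⟨(x ^ oi.2.val) (Quotient.out oi.1).1, fun h => (Quotient.out oi.1).2 ((x ^ oi.2.val).injective (by
    rw [← Perm.mul_apply, ← pow_succ, pow_succ', Perm.mul_apply]; exact h))⟩

theorem param_val (oi : Cyc x × ZMod q) :
    (param oi : Ω) = (x ^ oi.2.val) (Quotient.out oi.1).1 := rfl

theorem mk_param (oi : Cyc x × ZMod q) : Quotient.mk (cycRel x) (param oi) = oi.1 := by
  conv_rhs => rw [← Quotient.out_eq oi.1]
  exact Quotient.sound (SameCycle.symm ⟨(oi.2.val : ℤ), by rw [zpow_natCast, param_val]⟩)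

theorem param_bijective (hx : x ^ q = 1) : Function.Bijective (param (x := x) (q := q)) := by
  constructor
  · rintro ⟨o, i⟩ ⟨o', i'⟩ h
    have ho : o = o' := by
      have h0 := congrArg (Quotient.mk (cycRel x)) h
      rwa [mk_param, mk_param] at h0
    subst ho
    have h1 := congrArg (fun z : Moved x => (x ^ (-i).val) (z : Ω)) h
    simp only [param_val, ← Perm.mul_apply, ← pow_val_add hx, neg_add_cancel, ZMod.val_zero,
      pow_zero, Perm.one_apply] at h1
    have h2 := cast_eq_zero_of_fix hx (Quotient.out o).2 h1.symm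
    rw [ZMod.natCast_zmod_val, neg_add_eq_sub, sub_eq_zero] at h2
    rw [h2]
  · intro a
    obtain ⟨k, hk⟩ : ∃ k : ℕ, (x ^ k) (Quotient.out (Quotient.mk (cycRel x) a)).1 = a.1 := by
      have h1 : SameCycle x (Quotient.out (Quotient.mk (cycRel x) a)).1 a.1 :=
        Quotient.mk_out (s := cycRel x) a
      obtain ⟨k, -, hk⟩ := h1.exists_pow_eq'
      exact ⟨k, hk⟩
    refine ⟨(Quotient.mk (cycRel x) a, (k : ZMod q)), Subtype.ext ?_⟩
    rw [param_val]
    conv_rhs => rw [← hk]
    rw [pow_congr_mod hx (a := ((k : ZMod q)).val) (b := k) (by rw [ZMod.natCast_zmod_val])]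

noncomputable instance : DecidableEq (Cyc x) := Classical.decEq _

noncomputable instance : Fintype (Cyc x) := Fintype.ofFinite _

theorem card_moved (hx : x ^ q = 1) :
    Nat.card (Moved x) = Nat.card (Cyc x) * q := by
  rw [← Nat.card_congr (Equiv.ofBijective _ (param_bijective hx)), Nat.card_prod, Nat.card_zmod]

theorem exists_mult {h : Perm Ω}
    (hh : h ∈ Subgroup.normalizer (Subgroup.zpowers x : Set (Perm Ω))) :
    ∃ r : ℕ, ∀ n : ℕ, h * x ^ n = x ^ (r * n) * h := by
  obtain ⟨r, hr⟩ := (isOfFinOrder_of_finite x).mem_powers_iff_mem_zpowers.2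
    (conj_mem x hh (Subgroup.mem_zpowers x))
  refine ⟨r, fun n => ?_⟩
  change x ^ r = h * x * h⁻¹ at hr
  rw [pow_mul, hr, conj_pow, inv_mul_cancel_right]

theorem exists_shift (hx : x ^ q = 1) (h : ↥(Subgroup.normalizer (Subgroup.zpowers x : Set (Perm Ω))))
    {r : ℕ} (hr : ∀ n : ℕ, (h : Perm Ω) * x ^ n = x ^ (r * n) * h) :
    ∃ c : Cyc x → ZMod q, ∀ (o : Cyc x) (i : ZMod q),
      movedPerm x h.2 (param (o, i)) = param (cycPerm x h o, (r : ZMod q) * i + c o) := by
  have hc : ∀ o : Cyc x, ∃ c : ZMod q,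
      param (cycPerm x h o, c) = movedPerm x h.2 (param (o, (0 : ZMod q))) := by
    intro o
    obtain ⟨⟨o', c⟩, hoc⟩ := (param_bijective (q := q) hx).2 (movedPerm x h.2 (param (o, (0 : ZMod q))))
    refine ⟨c, ?_⟩
    have : o' = cycPerm x h o := by
      have h1 := congrArg (Quotient.mk (cycRel x)) hoc
      rw [mk_param, ← cycPerm_mk, mk_param] at h1
      exact h1
    rw [← this, hoc]
  choose c hc using hc
  refine ⟨c, fun o i => Subtype.ext ?_⟩
  have h1 := congrArg Subtype.val (hc o)
  simp only [movedPerm_val, param_val, ZMod.val_zero, pow_zero, Perm.one_apply] at h1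
  simp only [movedPerm_val, param_val]
  rw [pow_congr_mod hx (a := ((r : ZMod q) * i + c o).val) (b := r * i.val + (c o).val) (by simp),
    pow_add, Perm.mul_apply, h1, ← Perm.mul_apply, ← Perm.mul_apply, hr]

theorem pow_eq_one (hx : x ^ q = 1) (h : ↥(Subgroup.normalizer (Subgroup.zpowers x : Set (Perm Ω))))
    (hcomm : (h : Perm Ω) * x = x * h) (hfix : ∀ z, x z = z → (h : Perm Ω) z = z)
    (hker : cycPerm x h = 1) : (h : Perm Ω) ^ q = 1 := by
  obtain ⟨c, hc⟩ := exists_shift hx h (r := 1) (fun n => by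
    rw [one_mul]; exact (show Commute (h : Perm Ω) x from hcomm).pow_right n)
  have hk : ∀ (k : ℕ) (o : Cyc x) (i : ZMod q),
      ((h : Perm Ω) ^ k) ((param (o, i) : Moved x) : Ω) =
        ((param (o, i + (k : ZMod q) * c o) : Moved x) : Ω) := by
    intro k
    induction k with
    | zero => intro o i; simp
    | succ k ih =>
      intro o i
      rw [pow_succ', Perm.mul_apply, ih, ← movedPerm_val x h.2, hc, hker]
      simp only [Perm.one_apply, Nat.cast_one, one_mul, Nat.cast_add]
      ring_nf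
  refine Equiv.ext fun z => ?_
  by_cases hz : x z = z
  · exact pow_apply_eq_self_of_apply_eq_self (hfix z hz) q
  · obtain ⟨⟨o, i⟩, hoi⟩ := (param_bijective (q := q) hx).2 ⟨z, hz⟩
    have h1 := hk q o i
    rw [ZMod.natCast_self, zero_mul, add_zero, hoi] at h1
    exact h1

/-- a non-commuting element fixing a cycle fixes a point of it -/
theorem exists_fixed (hx : x ^ q = 1) (h : ↥(Subgroup.normalizer (Subgroup.zpowers x : Set (Perm Ω))))
    (hnc : (h : Perm Ω) * x ≠ x * h) (o : Cyc x) (ho : cycPerm x h o = o) :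
    ∃ z : Moved x, (h : Perm Ω) z = z := by
  obtain ⟨r, hr⟩ := exists_mult h.2
  obtain ⟨c, hc⟩ := exists_shift hx h hr
  have hr1 : (1 : ZMod q) - r ≠ 0 := by
    intro h0
    apply hnc
    have h1 := hr 1
    rw [pow_one, mul_one, pow_congr_mod hx (b := 1) (by rw [← sub_eq_zero.1 h0, Nat.cast_one]), pow_one]
      at h1
    exact h1
  refine ⟨param (o, c o / (1 - (r : ZMod q))), ?_⟩
  rw [← movedPerm_val x h.2, hc, ho]
  congr 3
  field_simp
  ring

/-- the sign formula -/
theorem sign_eq (hx : x ^ q = 1) (hx1 : x ≠ 1) (hq : q ≠ 2)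
    (h : ↥(Subgroup.normalizer (Subgroup.zpowers x : Set (Perm Ω))))
    (hfix : ∀ z, x z = z → (h : Perm Ω) z = z)
    (hcase : (h : Perm Ω) * x = x * h ∨ Even (Nat.card (Cyc x))) :
    Perm.sign (h : Perm Ω) = Perm.sign (cycPerm x h) := by
  classical
  have hqo : Odd q := (Fact.out : q.Prime).odd_of_ne_two hq
  obtain ⟨r, hr, hr1⟩ : ∃ r : ℕ, (∀ n : ℕ, (h : Perm Ω) * x ^ n = x ^ (r * n) * h) ∧
      (r = 1 ∨ Even (Nat.card (Cyc x))) := by
    rcases hcase with hc | hc
    · exact ⟨1, fun n => by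
        rw [one_mul]; exact (show Commute (h : Perm Ω) x from hc).pow_right n, Or.inl rfl⟩
    · obtain ⟨r, hr⟩ := exists_mult h.2
      exact ⟨r, hr, Or.inr hc⟩
  have hr0 : (r : ZMod q) ≠ 0 := by
    intro h0
    apply hx1
    have h1 := hr 1
    rw [pow_one, mul_one, pow_congr_mod hx (b := 0) (by rw [h0, Nat.cast_zero]), pow_zero, one_mul] at h1
    exact mul_eq_left.1 h1
  obtain ⟨c, hc⟩ := exists_shift hx h hr
  set u : (ZMod q)ˣ := Units.mk0 (r : ZMod q) hr0 with hu
  let e := Equiv.ofBijective _ (param_bijective (x := x) hx)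
  let f : Cyc x → Perm (ZMod q) := fun o => Equiv.addRight (c o) * Units.mulLeft u
  let π : Perm (Cyc x × ZMod q) :=
    Equiv.prodCongrLeft (fun _ => cycPerm x h) * Equiv.prodCongrRight f
  have hπ : movedPerm x h.2 = e.permCongr π := by
    refine Equiv.ext fun a => ?_
    obtain ⟨⟨o, i⟩, rfl⟩ := e.surjective a
    rw [Equiv.permCongr_apply, Equiv.symm_apply_apply]
    exact hc o i
  have hsub : Perm.sign (movedPerm x h.2) = Perm.sign (h : Perm Ω) := by
    exact Perm.sign_subtypePerm (p := fun z => x z ≠ z) (h : Perm Ω) _ fun z hz hfx => hz (hfix z hfx)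
  have hadd : ∀ o, Perm.sign (Equiv.addRight (c o)) = 1 := by
    intro o
    have h1 : ∀ k : ℕ, (Equiv.addRight (c o)) ^ k = Equiv.addRight ((k : ZMod q) * c o) := by
      intro k
      induction k with
      | zero => ext; simp
      | succ k ih =>
        rw [pow_succ', ih]
        exact Equiv.ext fun z => by simp [add_mul, add_assoc]
    have h2 := congrArg Perm.sign (h1 q)
    rw [map_pow, ZMod.natCast_self, zero_mul,
      show Equiv.addRight (0 : ZMod q) = 1 from Equiv.ext fun z => by simp, map_one] at h2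
    rcases Int.units_eq_one_or (Perm.sign (Equiv.addRight (c o))) with h3 | h3
    · exact h3
    · rw [h3, hqo.neg_one_pow] at h2
      exact absurd h2 (by decide)
  rw [← hsub, hπ, Perm.sign_permCongr, map_mul, Perm.sign_prodCongrLeft, Perm.sign_prodCongrRight,
    Finset.prod_const, Finset.card_univ, ZMod.card]
  simp only [f, map_mul, hadd, one_mul, Finset.prod_const, Finset.card_univ]
  have hone : Perm.sign (Units.mulLeft u) ^ Fintype.card (Cyc x) = 1 := by
    rcases hr1 with hr1 | hr1
    · have : (Units.mulLeft u : Perm (ZMod q)) = 1 := Equiv.ext fun z => by simp [hu, hr1]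
      rw [this, map_one, one_pow]
    · rw [Nat.card_eq_fintype_card] at hr1
      rcases Int.units_eq_one_or (Perm.sign (Units.mulLeft u : Perm (ZMod q))) with h3 | h3
      · rw [h3, one_pow]
      · rw [h3, hr1.neg_one_pow]
  rw [hone, mul_one]
  rcases Int.units_eq_one_or (Perm.sign (cycPerm x h)) with h3 | h3
  · rw [h3, one_pow]
  · rw [h3, hqo.neg_one_pow]

end Cfsg.Agent.SylowTwentyOne41
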